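import Groth.Agent.GradedCechLib.Chart
import Groth.Agent.GenusZeroLib.PSmooth
import Groth.Agent.CurveDualLib.GenusField
import Groth.Agent.CurveFFLib.Extend
import Groth.Agent.ProjDegLib.Criterion
import Groth.Agent.QCohLib.ProjSpace

/-!
# Morphisms from a curve to projective space given by rational functions
-/

set_option autoImplicit false
set_option linter.style.haveILetI false
set_option linter.unusedSectionVars false
universe u

open CategoryTheory CategoryTheory.Limits AlgebraicGeometry TopologicalSpace Opposite IsLocalRing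
open GradedCechLib (deh deh_X_self deh_C)

noncomputable section

namespace PlaneCubicLib

attribute [local instance] CurveDualLib.algFF

variable {k : Type u} [Field k] {X : Scheme.{u}} [X.Over (Spec (CommRingCat.of k))] [IsIntegral X] {n : ℕ}

/-- `a ↦` its value on the ratios `g j / g i`. -/
abbrev valAt (g : Fin (n + 1) → X.functionField) (i : Fin (n + 1)) :
    MvPolynomial (Fin (n + 1)) k →ₐ[k] X.functionField :=
  MvPolynomial.aeval fun j => g j / g i

/-- A morphism realises the functions `g`. -/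
structure IsMapOf (g : Fin (n + 1) → X.functionField) (r : X ⟶ CohB1.ProjSpace n k) : Prop where
  base : r ≫ CohB1.ProjSpace.toSpec n k = X ↘ Spec (CommRingCat.of k)
  gen_mem : ∀ i, genericPoint X ∈ r ⁻¹ᵁ QCohLib.stdOpen n k i
  germ_app : ∀ i p, X.presheaf.germ (r ⁻¹ᵁ QCohLib.stdOpen n k i) (genericPoint X) (gen_mem i)
      (r.app (QCohLib.stdOpen n k i) (deh n k i p)) = valAt g i p

variable [Smooth (X ↘ Spec (CommRingCat.of k))] [IsProper (X ↘ Spec (CommRingCat.of k))]
  (hdim : topologicalKrullDim X = 1) {g : Fin (n + 1) → X.functionField} (hg : ∀ i, g i ≠ 0)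

/-- Constants on a chart, read in the function field. -/
theorem germ_app_cstOn {r : X ⟶ CohB1.ProjSpace n k} (hr : r ≫ CohB1.ProjSpace.toSpec n k = X ↘ Spec (CommRingCat.of k))
    (U : (CohB1.ProjSpace n k).Opens) (h : genericPoint X ∈ r ⁻¹ᵁ U) (c : k) :
    X.presheaf.germ (r ⁻¹ᵁ U) (genericPoint X) h (r.app U (GradedCechLib.cstOn n k U c)) =
      algebraMap k X.functionField c := by
  rw [← Scheme.Hom.germ_stalkMap_apply r U (genericPoint X) h]
  have h0 : (CohB1.ProjSpace n k).presheaf.germ U (r (genericPoint X)) h (GradedCechLib.cstOn n k U c) =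
      (CohB1.ProjSpace n k).presheaf.germ ⊤ (r (genericPoint X)) trivial
        (Coh.toGlobal (CohB1.ProjSpace.toSpec n k) c) :=
    TopCat.Presheaf.germ_res_apply (CohB1.ProjSpace n k).presheaf (homOfLE le_top) _ h _
  rw [h0, Scheme.Hom.germ_stalkMap_apply]
  refine congrArg (X.presheaf.germ ⊤ (genericPoint X) trivial) ?_
  show ((CohB1.ProjSpace.toSpec n k).appTop ≫ r.appTop) _ = _
  rw [← Scheme.Hom.comp_appTop, hr]
  rfl

include hdim hg in
/-- Rational functions define a morphism to projective space. -/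
theorem exists_isMapOf : ∃ r : X ⟶ CohB1.ProjSpace n k, IsMapOf g r := by
  let P := CohB1.ProjSpace n k
  let η := genericPoint X
  let A0 := HomogeneousLocalization.Away (CohB1.polyGrading n k) (MvPolynomial.X (0 : Fin (n + 1)) : MvPolynomial (Fin (n + 1)) k)
  let e : MvPolynomial (Fin n) k ≃+* A0 :=
    RingEquiv.ofBijective (GenusZeroLib.chartPoly n k 0) (GenusZeroLib.chartPoly_bijective n k 0)
  let α : A0 →+* X.functionField :=
    (MvPolynomial.aeval fun l : Fin n => g ((0 : Fin (n + 1)).succAbove l) / g 0 : MvPolynomial (Fin n) k →ₐ[k] _).toRingHom.comp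
      e.symm.toRingHom
  have hα : ∀ p, α (GradedCechLib.deh₀ n k 0 p) = valAt g 0 p := by
    have hsub : ∀ p, e (GenusZeroLib.subst n k 0 p) = GradedCechLib.deh₀ n k 0 p := fun p => by
      refine RingHom.congr_fun (?_ : (e : MvPolynomial (Fin n) k →+* A0).comp (GenusZeroLib.subst n k 0) = _) p
      refine MvPolynomial.ringHom_ext (fun c => ?_) fun j => ?_
      · simp [e, GenusZeroLib.chartPoly, GenusZeroLib.subst, GradedCechLib.deh₀]
      · rcases Fin.eq_self_or_eq_succAbove (0 : Fin (n + 1)) j with rfl | ⟨l, rfl⟩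
        · rw [GradedCechLib.deh₀_X_self]
          simp [e, GenusZeroLib.chartPoly, GenusZeroLib.subst]
        · simp [e, GenusZeroLib.chartPoly, GenusZeroLib.subst]
    intro p
    rw [← hsub]
    show MvPolynomial.aeval _ (e.symm (e _)) = _
    rw [RingEquiv.symm_apply_apply]
    refine RingHom.congr_fun (?_ : ((MvPolynomial.aeval fun l : Fin n => g ((0 : Fin (n + 1)).succAbove l) / g 0 :
      MvPolynomial (Fin n) k →ₐ[k] X.functionField) : _ →+* _).comp (GenusZeroLib.subst n k 0) = (valAt (k := k) g 0).toRingHom) p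
    refine MvPolynomial.ringHom_ext (fun c => ?_) fun j => ?_
    · simp [GenusZeroLib.subst]
    · rcases Fin.eq_self_or_eq_succAbove (0 : Fin (n + 1)) j with rfl | ⟨l, rfl⟩
      · simp [GenusZeroLib.subst, div_self (hg 0)]
      · simp [GenusZeroLib.subst]
  let φ : Spec X.functionField ⟶ P := Spec.map (CommRingCat.ofHom α) ≫ GradedCechLib.chartι n k 0
  have hU0 : IsAffineOpen (QCohLib.stdOpen n k 0) :=
    Proj.isAffineOpen_basicOpen _ _ (GradedCechLib.X_mem n k 0) one_pos
  have hφs : φ ≫ CohB1.ProjSpace.toSpec n k = X.fromSpecStalk η ≫ (X ↘ Spec (CommRingCat.of k)) := by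
    have hcomp : GradedCechLib.chartι n k 0 ≫ CohB1.ProjSpace.toSpec n k =
        Spec.map (CommRingCat.ofHom (GradedCechLib.cst n k (MvPolynomial.X 0))) := by
      rw [CohB1.ProjSpace.toSpec, GradedCechLib.chartι]
      erw [Proj.awayι_toSpecZero_assoc, ← Spec.map_comp]
      rfl
    rw [Category.assoc, hcomp, ← Spec.map_comp, ← Scheme.SpecMap_stalkMap_fromSpecStalk,
      ← (isAffineOpen_top (Spec (CommRingCat.of k))).fromSpecStalk_eq_fromSpecStalk trivial,
      IsAffineOpen.fromSpecStalk, IsAffineOpen.fromSpec_top, Scheme.isoSpec_Spec_inv, ← Spec.map_comp, ← Spec.map_comp]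
    refine congrArg _ (CommRingCat.hom_ext (RingHom.ext fun c => ?_))
    have h1 : α (GradedCechLib.cst n k (MvPolynomial.X 0) c) = algebraMap k X.functionField c := by
      have := hα (MvPolynomial.C c)
      rwa [GradedCechLib.deh₀, MvPolynomial.eval₂Hom_C, MvPolynomial.aeval_C] at this
    refine h1.trans ?_
    exact (Scheme.Hom.germ_stalkMap_apply (X ↘ Spec (CommRingCat.of k)) ⊤ η trivial _).symm
  haveI : IsProper (CohB1.ProjSpace.toSpec n k) := ProjDegLib.toSpec_isProper k n
  haveI := CurvLib.isNoetherian k (X := X)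
  obtain ⟨r, hr, hrφ⟩ := CurveFFLib.exists_hom_of_functionField hdim.le
    (HurwitzLib.isNormalScheme_of_smooth (k := k)) (X ↘ Spec (CommRingCat.of k)) (CohB1.ProjSpace.toSpec n k) φ hφs
  have hη0 : η ∈ r ⁻¹ᵁ QCohLib.stdOpen n k 0 := by
    have h1 : r η = φ (closedPoint X.functionField) := by
      rw [← hrφ, Scheme.Hom.comp_apply, Scheme.fromSpecStalk_closedPoint]
    show r η ∈ QCohLib.stdOpen n k 0
    rw [h1, show φ (closedPoint X.functionField) =
      GradedCechLib.chartι n k 0 (Spec.map (CommRingCat.ofHom α) (closedPoint X.functionField)) from rfl]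
    exact GradedCechLib.chartι_le n k 0 trivial
  have hloc : ∀ a : Γ(P, QCohLib.stdOpen n k 0), X.presheaf.germ _ η hη0 (r.app _ a) =
      α ((Scheme.ΓSpecIso _).hom ((GradedCechLib.chartι n k 0).appLE _ ⊤ (GradedCechLib.chartι_le n k 0) a)) := by
    have h1 : Spec.map (P.presheaf.germ _ (r η) hη0 ≫ r.stalkMap η) ≫ hU0.fromSpec =
        Spec.map ((GradedCechLib.chartι n k 0).appLE _ ⊤ (GradedCechLib.chartι_le n k 0) ≫ (Scheme.ΓSpecIso _).hom ≫
          CommRingCat.ofHom α) ≫ hU0.fromSpec := by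
      simp only [Spec.map_comp, Category.assoc]
      rw [IsAffineOpen.SpecMap_appLE_fromSpec (GradedCechLib.chartι n k 0) hU0 (isAffineOpen_top _)
        (GradedCechLib.chartι_le n k 0), IsAffineOpen.fromSpec_top, Scheme.isoSpec_Spec_inv]
      have h2 : Spec.map (r.stalkMap η) ≫ Spec.map (P.presheaf.germ _ (r η) hη0) ≫ hU0.fromSpec = φ := by
        rw [← hrφ, ← Scheme.SpecMap_stalkMap_fromSpecStalk, ← hU0.fromSpecStalk_eq_fromSpecStalk hη0]
        rfl
      rw [h2]
      show φ = _
      rw [← Spec.map_comp_assoc (Scheme.ΓSpecIso _).inv (Scheme.ΓSpecIso _).hom, Iso.inv_hom_id, Spec.map_id,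
        Category.id_comp]
      rfl
    intro a
    rw [← Scheme.Hom.germ_stalkMap_apply r (QCohLib.stdOpen n k 0) η hη0]
    exact ConcreteCategory.congr_hom (Spec.map_injective ((cancel_mono hU0.fromSpec).mp h1)) a
  have hval0 : ∀ p, X.presheaf.germ _ η hη0 (r.app _ (deh n k 0 p)) = valAt g 0 p := fun p => by
    rw [hloc, GradedCechLib.awayι_appLE_deh, Iso.inv_hom_id_apply, hα]
  have hmem : ∀ i, η ∈ r ⁻¹ᵁ QCohLib.stdOpen n k i := fun i => by
    have hu : IsUnit (P.presheaf.germ _ (r η) hη0 (deh n k 0 (MvPolynomial.X i))) := by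
      refine (isUnit_map_iff (r.stalkMap η).hom _).mp ?_
      rw [Scheme.Hom.germ_stalkMap_apply, hval0, MvPolynomial.aeval_X]
      exact (div_ne_zero (hg i) (hg 0)).isUnit
    have h := (Scheme.mem_basicOpen P (deh n k 0 (MvPolynomial.X i)) (r η) hη0).mpr hu
    rw [GradedCechLib.basicOpen_deh_X] at h
    exact h.2
  refine ⟨r, hr, hmem, fun i => RingHom.congr_fun (f :=
    (X.presheaf.germ (r ⁻¹ᵁ QCohLib.stdOpen n k i) η (hmem i)).hom.comp
      ((r.app (QCohLib.stdOpen n k i)).hom.comp (deh n k i))) (g := (valAt (k := k) g i).toRingHom) ?_⟩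
  refine MvPolynomial.ringHom_ext (fun c => ?_) fun j => ?_
  · show X.presheaf.germ _ η (hmem i) (r.app _ (deh n k i (MvPolynomial.C c))) = valAt g i (MvPolynomial.C c)
    rw [deh_C, germ_app_cstOn hr, MvPolynomial.aeval_C]
  · show X.presheaf.germ _ η (hmem i) (r.app _ (deh n k i (MvPolynomial.X j))) = valAt g i (MvPolynomial.X j)
    have hW : r η ∈ QCohLib.stdOpen n k 0 ⊓ QCohLib.stdOpen n k i := ⟨hη0, hmem i⟩
    have h := congrArg (fun z => r.stalkMap η (P.presheaf.germ _ (r η) hW z))
      (GradedCechLib.resO_deh_X n k 0 i j (inf_le_left : QCohLib.stdOpen n k 0 ⊓ QCohLib.stdOpen n k i ≤ _) inf_le_right)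
    simp only [map_mul, GradedCechLib.resO] at h
    erw [TopCat.Presheaf.germ_res_apply, TopCat.Presheaf.germ_res_apply, TopCat.Presheaf.germ_res_apply] at h
    rw [Scheme.Hom.germ_stalkMap_apply, Scheme.Hom.germ_stalkMap_apply, Scheme.Hom.germ_stalkMap_apply,
      hval0, hval0, MvPolynomial.aeval_X, MvPolynomial.aeval_X] at h
    rw [MvPolynomial.aeval_X]
    have hg0 := hg 0
    have hgi := hg i
    refine mul_right_cancel₀ (div_ne_zero hgi hg0) (h.symm.trans ?_)
    field_simp

variable {r : X ⟶ CohB1.ProjSpace n k} (hr : IsMapOf g r)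

include hdim hg hr in
/-- A point lies over a chart exactly when the ratios are regular there. -/
theorem mem_preimage_iff {x : X} (hx : IsClosed ({x} : Set X)) (i : Fin (n + 1)) :
    x ∈ r ⁻¹ᵁ QCohLib.stdOpen n k i ↔ ∀ j, (CurveDualLib.ptPlace (k := k) hdim hx).1 (g j / g i) ≤ 1 := by
  let P := CohB1.ProjSpace n k
  have hgerm : ∀ (l : Fin (n + 1)) (hxl : x ∈ r ⁻¹ᵁ QCohLib.stdOpen n k l) (p : MvPolynomial (Fin (n + 1)) k),
      algebraMap (X.presheaf.stalk x) X.functionField
        (r.stalkMap x (P.presheaf.germ _ (r x) hxl (deh n k l p))) = valAt g l p := fun l hxl p => by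
    rw [Scheme.Hom.germ_stalkMap_apply, ← hr.germ_app l p]
    exact TopCat.Presheaf.germ_stalkSpecializes_apply X.presheaf hxl _ _
  constructor
  · intro hxi j
    rw [CurveDualLib.ptPlace_val (k := k) hdim hx, CurveDualLib.ptVal_le_one_iff]
    exact ⟨_, (hgerm i hxi (MvPolynomial.X j)).trans (MvPolynomial.aeval_X _ _)⟩
  · intro h
    obtain ⟨l, hl⟩ : ∃ l, r x ∈ QCohLib.stdOpen n k l :=
      Opens.mem_iSup.mp (by rw [QCohLib.iSup_stdOpen]; trivial)
    obtain ⟨b, hb⟩ := (CurveDualLib.ptVal_le_one_iff (k := k) hdim hx _).mp (CurveDualLib.ptPlace_val (k := k) hdim hx ▸ h l)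
    let a := r.stalkMap x (P.presheaf.germ _ (r x) hl (deh n k l (MvPolynomial.X i)))
    have hab : a * b = 1 := IsFractionRing.injective (X.presheaf.stalk x) X.functionField (by
      rw [map_mul, map_one, hb, hgerm l hl, MvPolynomial.aeval_X, div_mul_div_cancel₀ (hg l), div_self (hg i)])
    have hu : IsUnit (P.presheaf.germ _ (r x) hl (deh n k l (MvPolynomial.X i))) :=
      (isUnit_map_iff (r.stalkMap x).hom _).mp (IsUnit.of_mul_eq_one b hab)
    have hmem := (Scheme.mem_basicOpen P (deh n k l (MvPolynomial.X i)) (r x) hl).mpr hu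
    rw [GradedCechLib.basicOpen_deh_X] at hmem
    exact hmem.2

end PlaneCubicLib
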