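import Groth.Agent.FFLib.Gaps
import Mathlib.RingTheory.MvPolynomial.Homogeneous

/-!
# The homogeneous coordinate ring of a Weierstrass cubic
-/

set_option autoImplicit false
set_option linter.unusedSectionVars false

open Module MvPolynomial FunFld
open Groth.Agent.FFLib

namespace PlaneCubicLib

variable {k K : Type*} [Field k] [Field K] [Algebra k K]

/-- The monomial `X^a Y^b Z^c`. -/
noncomputable abbrev mon (a b c : ℕ) : MvPolynomial (Fin 3) k := X 0 ^ a * X 1 ^ b * X 2 ^ c

theorem isHomogeneous_mon (a b c : ℕ) : (mon a b c : MvPolynomial (Fin 3) k).IsHomogeneous (a + b + c) :=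
  ((isHomogeneous_X_pow 0 a).mul (isHomogeneous_X_pow 1 b)).mul (isHomogeneous_X_pow 2 c)

/-- The Weierstrass cubic. -/
noncomputable abbrev weq (a₁ a₂ a₃ a₄ a₆ : k) : MvPolynomial (Fin 3) k :=
  X 1 ^ 2 * X 2 + C a₁ * X 0 * X 1 * X 2 + C a₃ * X 1 * X 2 ^ 2 - X 0 ^ 3 - C a₂ * X 0 ^ 2 * X 2 -
    C a₄ * X 0 * X 2 ^ 2 - C a₆ * X 2 ^ 3

theorem isHomogeneous_weq (a₁ a₂ a₃ a₄ a₆ : k) : (weq a₁ a₂ a₃ a₄ a₆).IsHomogeneous 3 := by
  have hX : ∀ (i : Fin 3), (X i : MvPolynomial (Fin 3) k).IsHomogeneous 1 := isHomogeneous_X k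
  have hC : ∀ c : k, (C c : MvPolynomial (Fin 3) k).IsHomogeneous 0 := fun c => isHomogeneous_C _ c
  refine IsHomogeneous.sub (IsHomogeneous.sub (IsHomogeneous.sub (IsHomogeneous.sub (IsHomogeneous.add
    (IsHomogeneous.add ?_ ?_) ?_) ?_) ?_) ?_) ?_
  · exact (isHomogeneous_X_pow 1 2).mul (hX 2)
  · exact (((hC a₁).mul (hX 0)).mul (hX 1)).mul (hX 2)
  · exact ((hC a₃).mul (hX 1)).mul (isHomogeneous_X_pow 2 2)
  · exact isHomogeneous_X_pow 0 3
  · exact ((hC a₂).mul (isHomogeneous_X_pow 0 2)).mul (hX 2)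
  · exact ((hC a₄).mul (hX 0)).mul (isHomogeneous_X_pow 2 2)
  · exact (hC a₆).mul (isHomogeneous_X_pow 2 3)

/-- Exponents of reduced monomials of degree `N`. -/
abbrev Red (N : ℕ) : Type := {s : Fin 3 × Fin (N + 1) // s.1.1 + s.2.1 ≤ N}

/-- A reduced monomial. -/
noncomputable def redMon (N : ℕ) (s : Red N) : MvPolynomial (Fin 3) k := mon s.1.1 s.1.2 (N - (s.1.1 + s.1.2))

/-- Every form reduces to the reduced monomials modulo the cubic. -/
theorem mon_mem (a₁ a₂ a₃ a₄ a₆ : k) (N : ℕ) : ∀ a b c : ℕ, a + b + c = N → (mon a b c : MvPolynomial (Fin 3) k) ∈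
    (Ideal.span {weq a₁ a₂ a₃ a₄ a₆}).restrictScalars k ⊔ Submodule.span k (Set.range (redMon (k := k) N)) := by
  intro a
  induction a using Nat.strong_induction_on with
  | _ a ih =>
    intro b c h
    rcases lt_or_ge a 3 with ha | ha
    · refine Submodule.mem_sup_right (Submodule.subset_span ⟨⟨(⟨a, ha⟩, ⟨b, by omega⟩), show a + b ≤ N by omega⟩, ?_⟩)
      show mon a b (N - (a + b)) = _
      rw [show N - (a + b) = c by omega]
    · obtain ⟨a', rfl⟩ : ∃ a', a = a' + 3 := ⟨a - 3, by omega⟩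
      have key : (mon (a' + 3) b c : MvPolynomial (Fin 3) k) = -(mon a' b c * weq a₁ a₂ a₃ a₄ a₆) +
          mon a' (b + 2) (c + 1) + a₁ • mon (a' + 1) (b + 1) (c + 1) + a₃ • mon a' (b + 1) (c + 2) -
          a₂ • mon (a' + 2) b (c + 1) - a₄ • mon (a' + 1) b (c + 2) - a₆ • mon a' b (c + 3) := by
        simp only [mon, weq, MvPolynomial.smul_eq_C_mul]
        ring
      rw [key]
      refine Submodule.sub_mem _ (Submodule.sub_mem _ (Submodule.sub_mem _ (Submodule.add_mem _ (Submodule.add_mem _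
        (Submodule.add_mem _ (Submodule.mem_sup_left ?_) (ih a' (by omega) _ _ (by omega))) ?_) ?_) ?_) ?_) ?_
      · exact neg_mem ((Ideal.span _).mul_mem_left _ (Ideal.subset_span rfl))
      all_goals exact Submodule.smul_mem _ _ (ih _ (by omega) _ _ (by omega))

/-- The functions `x, y, 1`. -/
abbrev coords (x y : K) : Fin 3 → K := ![x, y, 1]

theorem aeval_mon (x y : K) (a b c : ℕ) : aeval (coords x y) (mon a b c : MvPolynomial (Fin 3) k) = x ^ a * y ^ b := by
  simp [mon, coords]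

/-- Evaluation of a form on the ratios. -/
theorem aeval_div_of_homogeneous {σ : Type*} {v : σ → K} {N : ℕ} {p : MvPolynomial σ k} (hp : p.IsHomogeneous N)
    (t : K) : aeval (fun j => v j / t) p = aeval v p / t ^ N := by
  conv_lhs => rw [p.as_sum]
  conv_rhs => rw [p.as_sum]
  rw [map_sum, map_sum, Finset.sum_div]
  refine Finset.sum_congr rfl fun s hs => ?_
  have hdeg : s.degree = N := by
    by_contra hne
    exact mem_support_iff.1 hs (hp.coeff_eq_zero hne)
  rw [aeval_monomial, aeval_monomial, mul_div_assoc]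
  congr 1
  rw [Finsupp.prod, Finsupp.prod, ← hdeg, Finsupp.degree_apply, ← Finset.prod_pow_eq_pow_sum, ← Finset.prod_div_distrib]
  exact Finset.prod_congr rfl fun i _ => div_pow _ _ _

variable {P₀ : Place k K} {x y : K} (hx : P₀.ord x = -2) (hy : P₀.ord y = -3)
  (hxL : x ∈ L (Finsupp.single P₀ 2 : Divisor k K)) (hyL : y ∈ L (Finsupp.single P₀ 3 : Divisor k K))

include hx hy in
theorem coords_ne_zero : ∀ i, coords x y i ≠ 0 := by
  intro i
  fin_cases i
  · show x ≠ 0
    rintro rfl; simp at hx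
  · show y ≠ 0
    rintro rfl; simp at hy
  · show (1 : K) ≠ 0
    exact one_ne_zero

include hx hy in
theorem ord_mon (a b : ℕ) : P₀.ord (x ^ a * y ^ b) = -(2 * a + 3 * b : ℤ) := by
  have h := coords_ne_zero hx hy
  rw [ord_mul P₀ (pow_ne_zero a (show x ≠ 0 from h 0)) (pow_ne_zero b (show y ≠ 0 from h 1)), ord_pow, ord_pow, hx, hy]
  ring

include hx hy in
/-- The reduced monomials have independent values. -/
theorem linearIndependent_red (N : ℕ) : LinearIndependent k fun s : Red N => aeval (coords x y) (redMon (k := k) N s) := by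
  have h := coords_ne_zero hx hy
  refine linearIndependent_of_ord P₀ _ (fun s => ?_) fun s t hst => ?_
  · rw [redMon, aeval_mon]
    exact mul_ne_zero (pow_ne_zero _ (show x ≠ 0 from h 0)) (pow_ne_zero _ (show y ≠ 0 from h 1))
  · simp only [redMon, aeval_mon, ord_mon hx hy] at hst
    have := s.1.1.2
    have := t.1.1.2
    refine Subtype.ext (Prod.ext (Fin.ext ?_) (Fin.ext ?_)) <;> omega

include hx hy in
/-- A form vanishing on the curve is a multiple of the cubic. -/
theorem mem_span_of_aeval_eq_zero (a₁ a₂ a₃ a₄ a₆ : k) (hW : aeval (coords x y) (weq a₁ a₂ a₃ a₄ a₆) = 0) {N : ℕ}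
    {q : MvPolynomial (Fin 3) k} (hq : q.IsHomogeneous N) (h0 : aeval (coords x y) q = 0) :
    q ∈ Ideal.span {weq a₁ a₂ a₃ a₄ a₆} := by
  have hmem : q ∈ (Ideal.span {weq a₁ a₂ a₃ a₄ a₆}).restrictScalars k ⊔ Submodule.span k (Set.range (redMon (k := k) N)) := by
    rw [q.as_sum]
    refine Submodule.sum_mem _ fun s hs => ?_
    have hdeg : s.degree = N := by
      by_contra hne
      exact mem_support_iff.1 hs (hq.coeff_eq_zero hne)
    have hN : s 0 + s 1 + s 2 = N := by rw [← hdeg, Finsupp.degree_eq_sum, Fin.sum_univ_three]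
    rw [show monomial s (coeff s q) = coeff s q • (mon (s 0) (s 1) (s 2) : MvPolynomial (Fin 3) k) by
      rw [MvPolynomial.smul_eq_C_mul, monomial_eq, Finsupp.prod_fintype _ _ (fun i => pow_zero _), Fin.prod_univ_three]]
    exact Submodule.smul_mem _ _ (mon_mem a₁ a₂ a₃ a₄ a₆ N _ _ _ hN)
  obtain ⟨w, hw, r, hr, rfl⟩ := Submodule.mem_sup.1 hmem
  obtain ⟨t, rfl⟩ := Ideal.mem_span_singleton'.1 (show w ∈ Ideal.span {weq a₁ a₂ a₃ a₄ a₆} from hw)
  obtain ⟨c, rfl⟩ := (Submodule.mem_span_range_iff_exists_fun k).1 hr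
  simp only [map_add, map_mul, hW, mul_zero, zero_add, map_sum, map_smul] at h0
  have hc := Fintype.linearIndependent_iff.1 (linearIndependent_red (k := k) hx hy N) c h0
  simp only [hc, zero_smul, Finset.sum_const_zero, add_zero]
  exact Ideal.mul_mem_left _ _ (Ideal.subset_span rfl)

variable (hK : IsFunctionField k K) (hg : genus k K = 1) (hP : P₀.deg = 1)

include hx hy hxL hyL hK hg hP in
/-- The spaces `L(mP₀)` are spanned by reduced monomials. -/
theorem L_le_span (m : ℕ) : (L (Finsupp.single P₀ (m : ℤ) : Divisor k K) : Submodule k K) ≤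
    Submodule.span k ((fun e : ℕ × ℕ => x ^ e.1 * y ^ e.2) '' {e | e.1 ≤ 2 ∧ 2 * e.1 + 3 * e.2 ≤ m}) := by
  have hne := coords_ne_zero hx hy
  have hl : ∀ n : ℤ, 1 ≤ n → (ell (Finsupp.single P₀ n : Divisor k K) : ℤ) = n := fun n hn => by
    rw [ell_eq_of_deg_ge hK (by rw [deg_single, hg, hP]; push_cast; omega), deg_single, hg, hP]
    push_cast; ring
  induction m using Nat.strong_induction_on with
  | _ m ih =>
    rcases le_or_gt m 1 with hm | hm
    · intro f hf
      have h1 : (1 : K) ∈ L (Finsupp.single P₀ 1 : Divisor k K) := by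
        rw [mem_L_iff one_ne_zero]
        intro Q
        rw [ord_one, zero_add]
        rcases eq_or_ne Q P₀ with rfl | hQ
        · rw [Finsupp.single_eq_same]; norm_num
        · rw [Finsupp.single_eq_of_ne hQ]
      have hf1 : f ∈ L (Finsupp.single P₀ 1 : Divisor k K) := L_mono (single_le_single P₀ (by exact_mod_cast hm)) hf
      have hfin : finrank k (L (Finsupp.single P₀ 1 : Divisor k K)) = 1 := by exact_mod_cast hl 1 le_rfl
      obtain ⟨c, hc⟩ := exists_smul_eq_of_finrank_eq_one hfin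
        (x := (⟨1, h1⟩ : L (Finsupp.single P₀ 1 : Divisor k K)))
        (fun h => one_ne_zero (congrArg Subtype.val h)) ⟨f, hf1⟩
      rw [← show c • (1 : K) = f from congrArg Subtype.val hc]
      exact Submodule.smul_mem _ _ (Submodule.subset_span ⟨(0, 0), ⟨by simp, by simp⟩, by simp⟩)
    obtain ⟨a, b, ha, hab⟩ : ∃ a b : ℕ, a ≤ 2 ∧ 2 * a + 3 * b = m :=
      ⟨(2 * m) % 3, (m - 2 * ((2 * m) % 3)) / 3, by omega, by omega⟩
    have hu0 : x ^ a * y ^ b ≠ 0 := mul_ne_zero (pow_ne_zero _ (show x ≠ 0 from hne 0)) (pow_ne_zero _ (show y ≠ 0 from hne 1))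
    have huo : P₀.ord (x ^ a * y ^ b) = -(m : ℤ) := by rw [ord_mon hx hy, ← hab]; push_cast; ring
    have huL : x ^ a * y ^ b ∈ L (Finsupp.single P₀ (m : ℤ) : Divisor k K) := by
      rw [mem_L_iff hu0]
      intro Q
      have e1 := (mem_L_iff (show x ≠ 0 from hne 0)).1 hxL Q
      have e2 := (mem_L_iff (show y ≠ 0 from hne 1)).1 hyL Q
      rcases eq_or_ne Q P₀ with rfl | hQ
      · rw [Finsupp.single_eq_same, huo]; omega
      · rw [Finsupp.single_eq_of_ne hQ, add_zero] at e1 e2 ⊢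
        rw [ord_mul Q (pow_ne_zero _ (show x ≠ 0 from hne 0)) (pow_ne_zero _ (show y ≠ 0 from hne 1)), ord_pow, ord_pow]
        positivity
    obtain ⟨m', rfl⟩ : ∃ m', m = m' + 1 := ⟨m - 1, by omega⟩
    have hlt : (x ^ a * y ^ b) ∉ L (Finsupp.single P₀ (m' : ℤ) : Divisor k K) := fun h => by
      have := (mem_L_iff hu0).1 h P₀
      rw [Finsupp.single_eq_same, huo] at this
      push_cast at this
      omega
    have hsup : L (Finsupp.single P₀ ((m' + 1 : ℕ) : ℤ) : Divisor k K) =
        L (Finsupp.single P₀ (m' : ℤ) : Divisor k K) ⊔ k ∙ (x ^ a * y ^ b) := by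
      have hle : L (Finsupp.single P₀ (m' : ℤ) : Divisor k K) ⊔ k ∙ (x ^ a * y ^ b) ≤
          L (Finsupp.single P₀ ((m' + 1 : ℕ) : ℤ) : Divisor k K) :=
        sup_le (L_mono (single_le_single P₀ (by push_cast; omega))) ((Submodule.span_singleton_le_iff_mem _ _).2 huL)
      haveI := finiteDimensional_L hK (Finsupp.single P₀ ((m' + 1 : ℕ) : ℤ) : Divisor k K)
      haveI := finiteDimensional_L hK (Finsupp.single P₀ (m' : ℤ) : Divisor k K)
      refine (Submodule.eq_of_le_of_finrank_le hle ?_).symm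
      have h1 := hl ((m' + 1 : ℕ) : ℤ) (by omega)
      have h2 := hl (m' : ℤ) (by omega)
      have h3 := Submodule.finrank_lt_finrank_of_lt (lt_of_le_of_ne (le_sup_left : L (Finsupp.single P₀ (m' : ℤ) : Divisor k K) ≤
        L (Finsupp.single P₀ (m' : ℤ) : Divisor k K) ⊔ k ∙ (x ^ a * y ^ b))
        fun e => hlt (e ▸ Submodule.mem_sup_right (Submodule.mem_span_singleton_self _)))
      unfold ell at h1 h2
      omega
    rw [hsup]
    refine sup_le ((ih m' (by omega)).trans (Submodule.span_mono (Set.image_mono fun e he => ⟨he.1, Nat.le_succ_of_le he.2⟩))) ?_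
    exact (Submodule.span_singleton_le_iff_mem _ _).2 (Submodule.subset_span ⟨(a, b), ⟨ha, hab.le⟩, rfl⟩)

include hx hy hxL hyL hK hg hP in
/-- A function regular where the ratios to a coordinate are regular is a form over a power of it. -/
theorem exists_form (i : Fin 3) (z : K)
    (hz : ∀ P : Place k K, (∀ j, P.1 (coords x y j / coords x y i) ≤ 1) → P.1 z ≤ 1) :
    ∃ p : MvPolynomial (Fin 3) k, aeval (fun j => coords x y j / coords x y i) p = z := by
  rcases eq_or_ne z 0 with rfl | hz0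
  · exact ⟨0, map_zero _⟩
  have hne := coords_ne_zero hx hy
  set t := coords x y i
  let N : ℕ := ∑ P ∈ (pole (k := k) z).support, (pole (k := k) z P).natAbs
  have hN : ∀ P : Place k K, -P.ord z ≤ N := by
    intro P
    rcases le_or_gt 0 (P.ord z) with h | h
    · omega
    have hp : pole (k := k) z P = -P.ord z := by rw [pole_apply hK]; omega
    have hle := Finset.single_le_sum (f := fun Q => (pole (k := k) z Q).natAbs) (fun Q _ => Nat.zero_le _)
      (Finsupp.mem_support_iff.2 (show pole (k := k) z P ≠ 0 by omega))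
    simp only [hp] at hle
    omega
  have hmem : z * t ^ N ∈ L (Finsupp.single P₀ ((3 * N : ℕ) : ℤ) : Divisor k K) := by
    rw [mem_L_iff (mul_ne_zero hz0 (pow_ne_zero _ (hne i)))]
    intro P
    rw [ord_mul P hz0 (pow_ne_zero _ (hne i)), ord_pow]
    let d : ℤ := (Finsupp.single P₀ 3 : Divisor k K) P
    have hd : (Finsupp.single P₀ ((3 * N : ℕ) : ℤ) : Divisor k K) P = N * d := by
      rcases eq_or_ne P P₀ with rfl | hQ
      · simp only [d, Finsupp.single_eq_same]; push_cast; ring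
      · simp only [d, Finsupp.single_eq_of_ne hQ, mul_zero]
    rw [hd]
    have hall : ∀ j, 0 ≤ P.ord (coords x y j) + d := by
      intro j
      have e1 := (mem_L_iff (show x ≠ 0 from hne 0)).1 hxL P
      have e2 := (mem_L_iff (show y ≠ 0 from hne 1)).1 hyL P
      have hd2 : (Finsupp.single P₀ 2 : Divisor k K) P ≤ d := single_le_single P₀ (by norm_num) P
      have hd0 : 0 ≤ d := by
        have := single_le_single P₀ (show (0 : ℤ) ≤ 3 by norm_num) P
        rwa [Finsupp.single_zero] at this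
      fin_cases j
      · show 0 ≤ P.ord x + d; omega
      · show 0 ≤ P.ord y + d; omega
      · show 0 ≤ P.ord (1 : K) + d; rw [ord_one]; omega
    by_cases hle : ∀ j, P.1 (coords x y j / t) ≤ 1
    · have h1 := (v_le_one_iff P z).1 (hz P hle)
      nlinarith [hall i, show (0 : ℤ) ≤ N from Nat.cast_nonneg N]
    · push Not at hle
      obtain ⟨j, hj⟩ := hle
      rw [one_lt_v_iff, div_eq_mul_inv, ord_mul P (hne j) (inv_ne_zero (hne i)), ord_inv] at hj
      nlinarith [hall j, hN P, show (0 : ℤ) ≤ N from Nat.cast_nonneg N]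
  suffices h : ∃ q : MvPolynomial (Fin 3) k, q.IsHomogeneous N ∧ aeval (coords x y) q = z * t ^ N by
    obtain ⟨q, hq, hqz⟩ := h
    exact ⟨q, by rw [aeval_div_of_homogeneous hq, hqz, mul_div_assoc, div_self (pow_ne_zero _ (hne i)), mul_one]⟩
  have hw := L_le_span hx hy hxL hyL hK hg hP (3 * N) hmem
  generalize z * t ^ N = w at hw
  induction hw using Submodule.span_induction with
  | mem v hv =>
    obtain ⟨⟨a, b⟩, ⟨ha, hab⟩, rfl⟩ := hv
    simp only at ha hab
    refine ⟨mon a b (N - (a + b)), ?_, aeval_mon x y _ _ _⟩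
    have h := isHomogeneous_mon (k := k) a b (N - (a + b))
    rwa [show a + b + (N - (a + b)) = N by omega] at h
  | zero => exact ⟨0, isHomogeneous_zero _ _ _, map_zero _⟩
  | add v v' _ _ hv hv' =>
    obtain ⟨q, hq, rfl⟩ := hv
    obtain ⟨q', hq', rfl⟩ := hv'
    exact ⟨q + q', hq.add hq', map_add _ _ _⟩
  | smul c v _ hv =>
    obtain ⟨q, hq, rfl⟩ := hv
    exact ⟨c • q, (homogeneousSubmodule _ k N).smul_mem c hq, map_smul _ _ _⟩

include hx hy hK in
/-- Every coordinate has a pole relative to some other. -/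
theorem exists_pole_ratio (i : Fin 3) : ∃ (j : Fin 3) (P : Place k K), ¬ P.1 (coords x y j / coords x y i) ≤ 1 := by
  obtain ⟨j, hj⟩ : ∃ j, P₀.ord (coords x y j / coords x y i) ≠ 0 := by
    fin_cases i
    · exact ⟨2, by show P₀.ord (1 / x) ≠ 0; rw [one_div, ord_inv, hx]; norm_num⟩
    · exact ⟨2, by show P₀.ord (1 / y) ≠ 0; rw [one_div, ord_inv, hy]; norm_num⟩
    · exact ⟨0, by show P₀.ord (x / 1) ≠ 0; rw [div_one, hx]; norm_num⟩
  obtain ⟨P, hPo⟩ := exists_pole_of_tr hK (transcendental_of_ord hK P₀ hj)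
  exact ⟨j, P, fun h => by have := (v_le_one_iff P _).1 h; omega⟩

/-- Scaling brings the equation to Weierstrass form. -/
theorem exists_normal_form {f g : Polynomial k} (hf : f.natDegree ≤ 1) (hg : g.natDegree = 3)
    (h : y ^ 2 + Polynomial.aeval x f * y + Polynomial.aeval x g = 0) :
    ∃ c : k, c ≠ 0 ∧ ∃ a₁ a₂ a₃ a₄ a₆ : k,
      aeval (coords (c • x) (c • y)) (weq a₁ a₂ a₃ a₄ a₆) = 0 := by
  have hc : g.coeff 3 ≠ 0 := by
    rw [← hg]
    exact Polynomial.leadingCoeff_ne_zero.2 fun h0 => by simp [h0] at hg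
  refine ⟨-g.coeff 3, neg_ne_zero.2 hc, f.coeff 1, -g.coeff 2, f.coeff 0 * -g.coeff 3, -(g.coeff 1 * -g.coeff 3),
    -(g.coeff 0 * (-g.coeff 3) ^ 2), ?_⟩
  rw [Polynomial.aeval_eq_sum_range' (show f.natDegree < 2 by omega),
    Polynomial.aeval_eq_sum_range' (show g.natDegree < 4 by omega)] at h
  simp only [Finset.sum_range_succ, Finset.sum_range_zero, Algebra.smul_def] at h
  simp [weq, coords, Algebra.smul_def]
  linear_combination (algebraMap k K (g.coeff 3)) ^ 2 * h

end PlaneCubicLib
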