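import Groth.Agent.PlaneCubicLib.Map
import Groth.Agent.CIGenLib.Hyp
import Groth.Agent.CurveAmpLib.Affine

/-!
# Embedding a curve as a plane hypersurface
-/

set_option autoImplicit false
set_option linter.style.haveILetI false
set_option linter.unusedSectionVars false
universe u

open CategoryTheory CategoryTheory.Limits AlgebraicGeometry TopologicalSpace Opposite IsLocalRing
open GradedCechLib (deh deh_surjective)

noncomputable section

namespace PlaneCubicLib

attribute [local instance] CurveDualLib.algFF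

variable {k : Type u} [Field k] {X : Scheme.{u}} [X.Over (Spec (CommRingCat.of k))] [IsIntegral X] {n : ℕ}
  [Smooth (X ↘ Spec (CommRingCat.of k))] [IsProper (X ↘ Spec (CommRingCat.of k))]
  (hdim : topologicalKrullDim X = 1)

include hdim in
/-- A section is regular at every place of its domain. -/
theorem le_one_of_section {U : X.Opens} (hU : genericPoint X ∈ U) (s : Γ(X, U)) {x : X}
    (hx : IsClosed ({x} : Set X)) (hxU : x ∈ U) :
    (CurveDualLib.ptPlace (k := k) hdim hx).1 (X.presheaf.germ U (genericPoint X) hU s) ≤ 1 := by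
  rw [CurveDualLib.ptPlace_val (k := k) hdim hx, CurveDualLib.ptVal_le_one_iff]
  exact ⟨X.presheaf.germ U x hxU s, TopCat.Presheaf.germ_stalkSpecializes_apply X.presheaf hxU _ _⟩

include hdim in
/-- A rational function regular at the places of an open set is a section over it. -/
theorem exists_section_of_le_one {U : X.Opens} (hU : genericPoint X ∈ U) (z : X.functionField)
    (hz : ∀ (x : X) (hx : IsClosed ({x} : Set X)), x ∈ U → (CurveDualLib.ptPlace (k := k) hdim hx).1 z ≤ 1) :
    ∃ s : Γ(X, U), X.presheaf.germ U (genericPoint X) hU s = z := by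
  let η := genericPoint X
  let ι := {p : Σ V : X.Opens, Γ(X, V) // p.1 ≤ U ∧ ∃ h : η ∈ p.1, X.presheaf.germ p.1 η h p.2 = z}
  have hcov : ∀ x ∈ U, ∃ p : ι, x ∈ p.1.1 := by
    intro x hxU
    obtain ⟨b, hb⟩ : ∃ b : X.presheaf.stalk x, algebraMap (X.presheaf.stalk x) X.functionField b = z := by
      by_cases hxη : x = η
      · subst hxη
        exact ⟨z, ConcreteCategory.congr_hom (TopCat.Presheaf.stalkSpecializes_refl X.presheaf η) z⟩
      have hx := CurveDualLib.isClosed_of_ne_generic (k := k) hdim hxη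
      exact (CurveDualLib.ptVal_le_one_iff (k := k) hdim hx z).mp (hz x hx hxU)
    obtain ⟨V, hxV, t, rfl⟩ := TopCat.Presheaf.exists_germ_eq X.presheaf (x := x) b
    have hW : x ∈ V ⊓ U := ⟨hxV, hxU⟩
    refine ⟨⟨⟨V ⊓ U, X.presheaf.map (homOfLE inf_le_left).op t⟩, inf_le_right,
      ((genericPoint_spec X).mem_open_set_iff (V ⊓ U).isOpen).mpr ⟨x, trivial, hW⟩, ?_⟩, hW⟩
    rw [TopCat.Presheaf.germ_res_apply, ← hb]
    exact (TopCat.Presheaf.germ_stalkSpecializes_apply X.presheaf hxV _ _).symm
  obtain ⟨s, hs, -⟩ := TopCat.Sheaf.existsUnique_gluing' X.sheaf (fun p : ι => p.1.1) U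
    (fun p => homOfLE p.2.1) (fun x hx => Opens.mem_iSup.mpr (hcov x hx)) (fun p => p.1.2)
    (fun p q => by
      have hW : η ∈ p.1.1 ⊓ q.1.1 := ⟨p.2.2.1, q.2.2.1⟩
      refine germ_injective_of_isIntegral X η hW ?_
      exact ((TopCat.Presheaf.germ_res_apply X.presheaf (Opens.infLELeft _ _) η hW _).trans p.2.2.2).trans
        ((TopCat.Presheaf.germ_res_apply X.presheaf (Opens.infLERight _ _) η hW _).trans q.2.2.2).symm)
  obtain ⟨p, hp⟩ := hcov η hU
  refine ⟨s, ?_⟩
  rw [← TopCat.Presheaf.germ_res_apply X.presheaf (homOfLE p.2.1) η hp s]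
  exact (congrArg (X.presheaf.germ p.1.1 η hp) (hs p)).trans p.2.2.2

include k hdim in
/-- A nonempty proper open subset of the curve is affine. -/
theorem isAffineOpen_of_ne_top {U : X.Opens} (hU : genericPoint X ∈ U) {x : X} (hxU : x ∉ U) :
    IsAffineOpen U := by
  haveI := CurvLib.isNoetherian k (X := X)
  refine CurveAmpLib.isAffineOpen_of_finite_compl k hdim.le U ?_ (fun η hη => ?_) fun C hC _ => ⟨x, ?_, hxU⟩
  · exact (CurvLib.finite_isClosed_of_dim_le_zero U.isOpen.isClosed_compl
      (CurvLib.topologicalKrullDim_le_zero_of_lt hdim U.isOpen.isClosed_compl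
        fun h => (h.ge (Set.mem_univ (genericPoint X))) hU)).1
  · rw [hη (genericPoint X) ((genericPoint_spec X).specializes trivial)] at hU
    exact hU
  · rw [irreducibleComponents_eq_singleton, Set.mem_singleton_iff] at hC
    exact hC ▸ trivial

variable {d : ℕ} {g : Fin (n + 1) → X.functionField} (hg : ∀ i, g i ≠ 0) {r : X ⟶ CohB1.ProjSpace n k}
  (hr : IsMapOf g r)

include hdim hg hr in
/-- A map given by functions generating the coordinate rings is a closed immersion onto its equation. -/
theorem exists_iso_hypIdeal (W : LefPen.Form n k d) (hW : ∀ i, valAt (k := k) g i W.1 = 0)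
    (pole : ∀ i, ∃ (j : Fin (n + 1)) (P : FunFld.Place k X.functionField), ¬ P.1 (g j / g i) ≤ 1)
    (surj : ∀ i z, (∀ P : FunFld.Place k X.functionField, (∀ j, P.1 (g j / g i) ≤ 1) → P.1 z ≤ 1) →
      ∃ p, valAt (k := k) g i p = z)
    (ker : ∀ i p, valAt (k := k) g i p = 0 → deh n k i p ∈ Ideal.span {deh n k i W.1}) :
    ∃ e : X ≅ (LefPen.hypIdeal W).subscheme, e.hom ≫ (LefPen.hypIdeal W).subschemeι = r := by
  have hcov : ⨆ i, LefPen.chart n k i = ⊤ := QCohLib.iSup_stdOpen n k
  have haff : ∀ i, IsAffineOpen (r ⁻¹ᵁ LefPen.chart n k i) := fun i => by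
    obtain ⟨j, P, hP⟩ := pole i
    obtain ⟨x, hx, rfl⟩ := CurveDualLib.exists_point (k := k) hdim P
    exact isAffineOpen_of_ne_top (k := k) hdim (hr.gen_mem i) fun hxi =>
      hP ((mem_preimage_iff hdim hg hr hx i).mp hxi j)
  have happ : ∀ i, Function.Surjective (r.app (LefPen.chart n k i)) := fun i s => by
    obtain ⟨p, hp⟩ := surj i (X.presheaf.germ _ (genericPoint X) (hr.gen_mem i) s) fun P hP => by
      obtain ⟨x, hx, rfl⟩ := CurveDualLib.exists_point (k := k) hdim P
      exact le_one_of_section hdim (hr.gen_mem i) s hx ((mem_preimage_iff hdim hg hr hx i).mpr hP)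
    exact ⟨deh n k i p, germ_injective_of_isIntegral X _ (hr.gen_mem i) ((hr.germ_app i p).trans hp)⟩
  haveI : IsClosedImmersion r := by
    refine IsZariskiLocalAtTarget.of_iSup_eq_top (P := @IsClosedImmersion) _ hcov fun i => ?_
    haveI : IsAffine (LefPen.chart n k i).toScheme := CIGen.chart_affine i
    haveI : IsAffine (r ⁻¹ᵁ LefPen.chart n k i).toScheme := haff i
    refine IsClosedImmersion.of_surjective_of_isAffine _ ?_
    rw [morphismRestrict_appTop]
    have h : ∀ (V : (CohB1.ProjSpace n k).Opens), V = LefPen.chart n k i → Function.Surjective (r.app V) :=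
      fun V hV => hV ▸ happ i
    exact (ConcreteCategory.bijective_of_isIso (X.presheaf.map _)).2.comp (h _ (Scheme.Opens.ι_image_top _))
  have hker : r.ker = LefPen.hypIdeal W := by
    refine Scheme.IdealSheafData.ext_of_iSup_eq_top (fun i => ⟨LefPen.chart n k i, CIGen.chart_affine i⟩) hcov fun i => ?_
    rw [Scheme.Hom.ker_apply, CIGen.hypIdeal_chart]
    refine le_antisymm (fun a ha => ?_) ((Ideal.span_singleton_le_iff_mem _).mpr ?_)
    · obtain ⟨p, rfl⟩ := deh_surjective n k i a
      refine ker i p ?_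
      rw [← hr.germ_app i p, show r.app (QCohLib.stdOpen n k i) (deh n k i p) = 0 from ha, map_zero]
    · exact germ_injective_of_isIntegral X _ (hr.gen_mem i)
        (((hr.germ_app i W.1).trans (hW i)).trans (map_zero (X.presheaf.germ _ _ (hr.gen_mem i)).hom).symm)
  rw [← hker]
  exact ⟨asIso r.toImage, r.toImage_imageι⟩

end PlaneCubicLib
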