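import Groth.Agent.PlaneCubicLib.Embed
import Groth.Agent.PlaneCubicLib.Cubic
import Groth.Agent.S10998
import Groth.Agent.GenusZeroLib.Pencil
import Groth.Agent.GenusZeroLib.Apps
import Groth.Agent.GenusZeroLib.TwoPoints
import Groth.Agent.CurveVBLib.Integral

/-!
# Curves of genus one as plane cubics
-/

set_option autoImplicit false
set_option linter.style.haveILetI false
set_option linter.unusedSectionVars false
universe u

open CategoryTheory CategoryTheory.Limits AlgebraicGeometry MvPolynomial
open GradedCechLib (deh deh_X_self)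

noncomputable section

namespace PlaneCubicLib

attribute [local instance] CurveDualLib.algFF

variable {k : Type u} [Field k] {E : Scheme.{u}} [E.Over (Spec (CommRingCat.of k))] [IsIntegral E]
  [Smooth (E ↘ Spec (CommRingCat.of k))] [IsProper (E ↘ Spec (CommRingCat.of k))]

/-- A curve of genus one with functions satisfying a Weierstrass equation is that cubic. -/
theorem exists_iso_weq (hdim : topologicalKrullDim E = 1) (hK : FunFld.IsFunctionField k E.functionField)
    (hgK : FunFld.genus k E.functionField = 1) {P₀ : FunFld.Place k E.functionField} (hP : P₀.deg = 1)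
    {x y : E.functionField} (hx : P₀.ord x = -2) (hy : P₀.ord y = -3)
    (hxL : x ∈ FunFld.L (Finsupp.single P₀ 2 : FunFld.Divisor k E.functionField))
    (hyL : y ∈ FunFld.L (Finsupp.single P₀ 3 : FunFld.Divisor k E.functionField))
    {a₁ a₂ a₃ a₄ a₆ : k} (hW0 : aeval (coords x y) (weq a₁ a₂ a₃ a₄ a₆) = 0)
    (W : LefPen.Form 2 k 3) (hW : W.1 = weq a₁ a₂ a₃ a₄ a₆) :
    ∃ e : E ≅ (LefPen.hypIdeal W).subscheme,
      e.hom ≫ (LefPen.hypIdeal W).subschemeι ≫ CohB1.ProjSpace.toSpec 2 k = E ↘ Spec (CommRingCat.of k) := by
  classical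
  have hne := coords_ne_zero hx hy
  obtain ⟨r, hr⟩ := exists_isMapOf (k := k) hdim hne
  have hval : ∀ i (N : ℕ) (q : MvPolynomial (Fin 3) k), q.IsHomogeneous N →
      valAt (n := 2) (coords x y) i q =
        aeval (coords x y) q / coords x y i ^ N :=
    fun i N q hq => aeval_div_of_homogeneous hq _
  obtain ⟨e, he⟩ := exists_iso_hypIdeal (k := k) hdim hne hr W
    (fun i => (hval i 3 _ W.2).trans (by rw [hW, hW0, zero_div]))
    (exists_pole_ratio hx hy hK)
    (exists_form hx hy hxL hyL hK hgK hP)
    (fun i p hp => by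
      let N := p.totalDegree
      let q : MvPolynomial (Fin 3) k := ∑ s ∈ p.support, monomial s (coeff s p) * X i ^ (N - s.degree)
      have hq : q.IsHomogeneous N := IsHomogeneous.sum _ _ _ fun s hs => by
        have h := (isHomogeneous_monomial (coeff s p) (rfl : s.degree = s.degree)).mul
          (isHomogeneous_X_pow (R := k) i (N - s.degree))
        have hle : s.degree ≤ N := le_totalDegree hs
        rwa [Nat.add_sub_cancel' hle] at h
      have hX : valAt (k := k) (coords x y) i (X i) = 1 :=
        (aeval_X _ i).trans (div_self (hne i))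
      have hdeh : deh 2 k i q = deh 2 k i p := by
        conv_rhs => rw [p.as_sum]
        simp only [q, map_sum, map_mul, map_pow, deh_X_self, one_pow, mul_one]
      have hvq : valAt (k := k) (coords x y) i q = 0 := by
        rw [← hp]
        conv_rhs => rw [p.as_sum]
        simp only [q, map_sum, map_mul, map_pow, hX, one_pow, mul_one]
      rw [hval i N q hq, div_eq_zero_iff, or_iff_left (pow_ne_zero _ (hne i))] at hvq
      rw [← hdeh]
      obtain ⟨t, ht⟩ := Ideal.mem_span_singleton'.1
        (mem_span_of_aeval_eq_zero hx hy a₁ a₂ a₃ a₄ a₆ hW0 hq hvq)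
      rw [← ht, map_mul]
      exact Ideal.mul_mem_left _ _ (Ideal.subset_span (by rw [hW]; rfl)))
  refine ⟨e, ?_⟩
  rw [← Category.assoc, he]
  exact hr.base

/-- The function field of a curve of genus one with a rational point. -/
theorem exists_genus_one_data (E : Scheme.{u}) [E.Over (Spec (CommRingCat.of k))]
    [IsProper (E ↘ Spec (CommRingCat.of k))] [Smooth (E ↘ Spec (CommRingCat.of k))] [ConnectedSpace E]
    (hdim : topologicalKrullDim E = 1) (o : Spec (CommRingCat.of k) ⟶ E) (ho : o ≫ (E ↘ Spec (CommRingCat.of k)) = 𝟙 _)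
    (hg : Curv2.genus k E = 1) :
    ∃ _ : IsIntegral E, FunFld.IsFunctionField k E.functionField ∧ FunFld.genus k E.functionField = 1 ∧
      ∃ P₀ : FunFld.Place k E.functionField, P₀.deg = 1 := by
  classical
  haveI := CurvLib.isNoetherian k (X := E)
  haveI : ∀ x : E, IsDomain (E.presheaf.stalk x) := fun x =>
    haveI := CurveVBLib.regular_stalk (k := k) x
    CommAlgDim.isDomain_of_isRegularLocalRing _
  haveI : IsIntegral E := CurveVBLib.isIntegral_of_connected
  let pt := o (IsLocalRing.closedPoint k)
  have hcl : IsClosed ({pt} : Set E) := GenusZeroLib.isClosed_rational o ho _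
  have hn : IsIntegrallyClosed (E.presheaf.stalk pt) :=
    haveI := CurveVBLib.regular_stalk (k := k) pt
    NormalLib.isIntegrallyClosed_of_isRegularLocalRing _
  obtain ⟨L, hL, hdeg⟩ := GenusZeroLib.realised_one_of_rational (k := k) hdim o ho _ hn
  have h0 := GenusZeroLib.finrank_structure_of_deg_one' k hdim hL hdeg
  have hK := CurveDualLib.isFunctionField' (k := k) hdim h0
  have hgK : FunFld.genus k E.functionField = 1 := by rw [CurveDualLib.genus_eq' (k := k) hdim h0, hg]
  let P₀ := CurveDualLib.ptPlace (k := k) hdim hcl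
  have hP : P₀.deg = 1 := by
    have h1 := CurveDualLib.resDeg_toNat (k := k) hdim hcl
    have h2 := GenusZeroLib.finrank_residueField_rational (k := k) o ho (IsLocalRing.closedPoint k)
    letI : Algebra k (E.presheaf.stalk pt) := Curv2.stalkAlgebra k E pt
    letI := Curv2.resAlgebra k E pt
    let e : (E.presheaf.stalk pt ⧸ IsLocalRing.maximalIdeal (E.presheaf.stalk pt)) ≃ₗ[k] E.residueField pt :=
      { (RingEquiv.refl (E.residueField pt)).toAddEquiv with map_smul' := fun _ _ => rfl }
    haveI : Module.Finite k (E.residueField pt) := Module.finite_of_finrank_eq_succ h2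
    rw [DetDegLib.resDeg, e.length_eq, Module.length_eq_finrank, h2] at h1
    simpa using h1.symm
  exact ⟨‹_›, hK, hgK, P₀, hP⟩

end PlaneCubicLib
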